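import Groth.Prelude.Def_Pi1
import Groth.Prelude.Def_SGA2
import Groth.Agent.Etbase.EtaleStalk
import Groth.Agent.Ega4A.CMFields
import Groth.Agent.S2164
import Groth.Agent.S2168
import Groth.Agent.S2932
import Groth.Agent.S0548

/-!
# Complete intersections and étale morphisms, depth of complete intersections
-/

set_option autoImplicit false
universe u

open CategoryTheory CategoryTheory.Limits AlgebraicGeometry

namespace Groth.Agent.Sga2lef.H89.EtCI

open Groth.Agent

/-- A Cohen-Macaulay local ring of dimension at least `n` has depth at least `n`. -/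
theorem depth_of_cm (A : Type u) [CommRing A] [LocCoh.IsCohenMacaulayLocalRing A] (n : ℕ∞)
    (h : (n : WithBot ℕ∞) ≤ ringKrullDim A) : n ≤ LocCoh.depth A A := by
  have h1 := LocCoh.IsCohenMacaulayLocalRing.supportDim_eq_depth (R := A)
  rw [Module.supportDim_self_eq_ringKrullDim] at h1
  rw [h1] at h
  exact WithBot.coe_le_coe.mp h

/-- A regular local ring of dimension at least `n` has depth at least `n`. -/
theorem depth_of_regular (A : Type u) [CommRing A] [IsRegularLocalRing A] (n : ℕ∞)
    (h : (n : WithBot ℕ∞) ≤ ringKrullDim A) : n ≤ LocCoh.depth A A := by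
  have := Ega4A.CMFields.isCohenMacaulayLocalRing_of_isRegularLocalRing A
  exact depth_of_cm A n h

/-- A complete intersection of dimension at least `n` has depth at least `n`. -/
theorem depth_of_ci (A : Type u) [CommRing A] [IsLocalRing A] [IsNoetherianRing A]
    (hA : SGA2.IsAbsCompleteIntersection A) (n : ℕ∞)
    (h : (n : WithBot ℕ∞) ≤ ringKrullDim A) : n ≤ LocCoh.depth A A := by
  have := (S2932.exists_data hA).1
  exact depth_of_cm A n h

/-- An absolute complete intersection is a complete intersection. -/
theorem isCompleteIntersection_of_abs {A : Type u} [CommRing A] [IsLocalRing A]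
    (hA : SGA2.IsAbsCompleteIntersection A) : Pi1.IsCompleteIntersection A := by
  obtain ⟨B, _, _, rs, -, hreg, ⟨e⟩⟩ := hA
  refine S2168.isCompleteIntersection_of_surjective (R := B)
    ((e.symm : (B ⧸ Ideal.span {r | r ∈ rs}) →+* A).comp (Ideal.Quotient.mk _))
    (e.symm.surjective.comp Ideal.Quotient.mk_surjective) ⟨rs, ?_, hreg⟩
  ext x
  rw [RingHom.mem_ker]
  change _ ↔ e.symm (Ideal.Quotient.mk _ x) = 0
  rw [map_eq_zero_iff _ e.symm.injective, Ideal.Quotient.eq_zero_iff_mem]

/-- A regular local ring is a complete intersection. -/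
theorem isCompleteIntersection_of_regular (A : Type u) [CommRing A] [IsRegularLocalRing A] :
    Pi1.IsCompleteIntersection A := by
  refine S2168.isCompleteIntersection_of_surjective (RingHom.id A) Function.surjective_id ⟨[], ?_, ?_⟩
  · rw [Ideal.ofList_nil]
    exact ((RingHom.injective_iff_ker_eq_bot _).mp Function.injective_id).symm
  · exact RingTheory.Sequence.IsRegular.nil A A

/-- Being a complete intersection passes to the local rings of étale schemes. -/
theorem isCompleteIntersection_stalk {X Y : Scheme.{u}} (f : X ⟶ Y) [Etale f] [IsLocallyNoetherian Y] (x : X)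
    (h : Pi1.IsCompleteIntersection (Y.presheaf.stalk (f x))) :
    Pi1.IsCompleteIntersection (X.presheaf.stalk x) := by
  obtain ⟨h1, h2, h3, h4⟩ := Etbase.EtaleStalk.stalkMap_facts f x
  algebraize [(f.stalkMap x).hom]
  have := Etbase.EtaleStalk.isNoetherianRing_stalk_source f x
  have hm : Ideal.map (algebraMap (Y.presheaf.stalk (f x)) (X.presheaf.stalk x))
      (IsLocalRing.maximalIdeal (Y.presheaf.stalk (f x))) =
      IsLocalRing.maximalIdeal (X.presheaf.stalk x) := Algebra.FormallyUnramified.map_maximalIdeal
  let F := X.presheaf.stalk x ⧸ Ideal.map (algebraMap (Y.presheaf.stalk (f x)) (X.presheaf.stalk x))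
      (IsLocalRing.maximalIdeal (Y.presheaf.stalk (f x)))
  have hmax : (Ideal.map (algebraMap (Y.presheaf.stalk (f x)) (X.presheaf.stalk x))
      (IsLocalRing.maximalIdeal (Y.presheaf.stalk (f x)))).IsMaximal := by
    rw [hm]
    infer_instance
  have hF : IsField F := Ideal.Quotient.maximal_ideal_iff_isField_quotient _ |>.mp hmax
  let : Field F := hF.toField
  have : IsLocalRing F := inferInstance
  have hreg : IsRegularLocalRing F := inferInstance
  exact S2164.result.mpr ⟨h, isCompleteIntersection_of_regular F⟩

end Groth.Agent.Sga2lef.H89.EtCI
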