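import Groth.Prelude.Def_EtDepth
import Groth.Agent.Pi1A.FEtGlue
import Groth.Agent.Sga2.PureDescent
import Groth.Agent.Pi1B.PuncturedIso
import Groth.Agent.S0250

/-!
# Homotopic depth at least three from local purity and depth
-/

set_option autoImplicit false
universe u

open CategoryTheory CategoryTheory.Limits AlgebraicGeometry

namespace Groth.Agent.Sga2lef.H89.HtpCore

open Groth.Agent

/-- Let `X` be locally Noetherian, `U` an open of `X` outside which the local rings of `X` have depth at least two,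
`p : Z ⟶ X` flat with `Z` locally Noetherian whose local rings outside `p⁻¹ U` satisfy purity.  Then restriction of
finite étale covers from `Z` to `p⁻¹ U` is an equivalence. -/
theorem isEquivalence_flat {X Z : Scheme.{u}} [IsLocallyNoetherian X] [IsLocallyNoetherian Z] (U : X.Opens)
    (hdep : ∀ x : X, x ∉ U → (2 : ℕ∞) ≤ LocCoh.depth (X.presheaf.stalk x) (X.presheaf.stalk x))
    (p : Z ⟶ X) [Flat p] (hpur : ∀ z : Z, p z ∉ U → FEt.PurityHolds (Z.presheaf.stalk z)) :
    (FEt.restrict (p ⁻¹ᵁ U).ι).IsEquivalence := by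
  refine Pi1A.FEtGlue.isEquivalence_of_affineOpens _ fun T => ?_
  have hN : IsNoetherian (Spec Γ(Z, T.1)) := by
    have : IsLocallyNoetherian (Spec Γ(Z, T.1)) := isLocallyNoetherian_of_isOpenImmersion T.2.fromSpec
    exact {}
  have key : (FEt.restrict ((T.2.fromSpec ≫ p) ⁻¹ᵁ U).ι).IsEquivalence := by
    have h1 := Sga2.PureDescent.full_faithful U hdep (T.2.fromSpec ≫ p)
    have h2 : (FEt.restrict ((T.2.fromSpec ≫ p) ⁻¹ᵁ U).ι).EssSurj := by
      refine S0250.result _ fun x hx => ?_
      have h3 := hpur (T.2.fromSpec x) hx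
      exact Pi1B.PuncturedIso.purityHolds_of_ringEquiv _ _
        (asIso (T.2.fromSpec.stalkMap x)).commRingCatIsoToRingEquiv h3
    exact { full := h1.1, faithful := h1.2, essSurj := h2 }
  refine Pi1A.FEtGlue.isEquivalence_of_arrowIso ?_ key
  exact Sga2.PureDescent.arrowIso (Sga2.PureDescent.isPullback_preimage (p ⁻¹ᵁ U).ι T.1).flip
    (Sga2.PureDescent.isPullback_preimage T.2.fromSpec (p ⁻¹ᵁ U)) T.2.isoSpec (by simp)

/-- Homotopic depth at least three from depth at least two and purity for the local rings of étale neighbourhoods. -/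
theorem htpDepthGE3_of_local {X U : Scheme.{u}} [IsLocallyNoetherian X] (j : U ⟶ X)
    [IsOpenImmersion j]
    (hdep : ∀ x : X, x ∉ Set.range j → (2 : ℕ∞) ≤ LocCoh.depth (X.presheaf.stalk x) (X.presheaf.stalk x))
    (hpur : ∀ (X' : Scheme.{u}) (g : X' ⟶ X) [Etale g] (x : X'), g x ∉ Set.range j →
      FEt.PurityHolds (X'.presheaf.stalk x)) :
    EtDepth.HtpDepthGE3 j := by
  intro X' g _
  have : IsLocallyNoetherian X' := LocallyOfFiniteType.isLocallyNoetherian g
  refine Pi1A.FEtGlue.isEquivalence_of_arrowIso ?_ (isEquivalence_flat j.opensRange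
    (fun x hx => hdep x fun h => hx h) g (fun x hx => hpur X' g x fun h => hx h))
  have h1 : IsPullback (pullback.fst j g ≫ j.isoOpensRange.hom) (pullback.snd j g) j.opensRange.ι g :=
    (IsPullback.of_hasPullback j g).of_iso (Iso.refl _) j.isoOpensRange (Iso.refl _) (Iso.refl _)
      (by simp) (by simp) (by simp) (by simp)
  exact Sga2.PureDescent.arrowIso h1 (Sga2.PureDescent.isPullback_preimage g j.opensRange) (Iso.refl _)
    (by simp)

end Groth.Agent.Sga2lef.H89.HtpCore
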